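import Cfsg.Agent.S4740
import Cfsg.Agent.S4744
import Cfsg.Agent.Lib.Char.ItoConverse
import Cfsg.Agent.Lib.Char.OneBlock
import Cfsg.Agent.Lib.Solv.Coprime
import Cfsg.Agent.Lib.OddChar.FT.NoMinimal
import Cfsg.Agent.Lib.OddChar.FT.Final

/-!
# Groups with odd centralisers of `p`-elements, no defect zero, acting with degree a power of `p`
-/

set_option autoImplicit false
set_option linter.unusedSectionVars false
set_option linter.style.haveILetI false

namespace Cfsg.Agent.OddCent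

open Cfsg Cfsg.Agent.Char

universe u v

variable {G : Type u} [Group G]

theorem exists_sqrt [Finite G] {g : G} (h : Odd (orderOf g)) : ∃ k : ℕ, g ^ k * g ^ k = g := by
  obtain ⟨m, hm⟩ := h
  refine ⟨m + 1, ?_⟩
  rw [← pow_add, show m + 1 + (m + 1) = orderOf g + 1 by omega, pow_succ, pow_orderOf_eq_one, one_mul]

/-- An involution inverting an element of odd order is conjugate to its product with it. -/
theorem exists_conj_inverted [Finite G] {w g : G} (hw : w * w = 1) (hodd : Odd (orderOf g))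
    (hinv : w * g * w⁻¹ = g⁻¹) : ∃ k : ℕ, g ^ k * w * (g ^ k)⁻¹ = g * w := by
  obtain ⟨k, hk⟩ := exists_sqrt hodd
  refine ⟨k, ?_⟩
  have h1 : w * g ^ k * w⁻¹ = (g ^ k)⁻¹ := by rw [← conj_pow, hinv, inv_pow]
  calc g ^ k * w * (g ^ k)⁻¹ = g ^ k * w * (w * g ^ k * w⁻¹) := by rw [h1]
    _ = g ^ k * (w * w) * g ^ k * w⁻¹ := by group
    _ = g * w := by rw [hw, mul_one, hk, inv_eq_of_mul_eq_one_right hw]

theorem orderOf_two {w : G} (hw : orderOf w = 2) : w * w = 1 ∧ w ≠ 1 :=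
  ⟨by rw [← pow_two, ← hw, pow_orderOf_eq_one], fun h => by rw [h, orderOf_one] at hw; omega⟩

theorem orderOf_conj_two {w : G} (hw : orderOf w = 2) (g : G) : orderOf (g * w * g⁻¹) = 2 := by
  rw [← MulAut.conj_apply, MulEquiv.orderOf_eq, hw]

section Sylow

variable [Finite G] {p : ℕ} [hp : Fact p.Prime]

/-- The hypotheses. -/
structure Hyp (G : Type u) [Group G] (p : ℕ) : Prop where
  ne_two : p ≠ 2
  dvd : p ∣ Nat.card G
  two_dvd : 2 ∣ Nat.card G
  odd_cent : ∀ g : G, g ≠ 1 → (∃ k : ℕ, orderOf g = p ^ k) →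
    Odd (Nat.card ↥(Subgroup.centralizer ({g} : Set G)))
  no_defect_zero : ¬ ∃ χ : Cfsg.IrrCharacter G,
    (Cfsg.charDegree (χ : G → ℂ)).factorization p = (Nat.card G).factorization p

theorem Hyp.comm (H : Hyp G p) (P : Sylow p G) {a b : G} (ha : a ∈ (P : Subgroup G))
    (hb : b ∈ (P : Subgroup G)) : a * b = b * a := by
  obtain ⟨-, hc⟩ := (Cfsg.Agent.S4744.result p H.ne_two H.dvd H.two_dvd H.odd_cent).resolve_left
    H.no_defect_zero P
  exact congrArg Subtype.val (hc.is_comm.comm (⟨a, ha⟩ : (P : Subgroup G)) ⟨b, hb⟩)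

theorem Hyp.not_commute (H : Hyp G p) (P : Sylow p G) {y w : G} (hy : y ∈ (P : Subgroup G))
    (hy1 : y ≠ 1) (hw : orderOf w = 2) : w * y ≠ y * w := by
  intro h
  obtain ⟨k, hk⟩ := IsPGroup.iff_orderOf.mp P.isPGroup' ⟨y, hy⟩
  rw [← Subgroup.orderOf_coe] at hk
  have h1 := (H.odd_cent y hy1 ⟨k, hk⟩).of_dvd_nat
    (hw ▸ Subgroup.orderOf_dvd_natCard _ (Subgroup.mem_centralizer_singleton_iff.mpr h))
  exact absurd h1 (by decide)

theorem Hyp.involution_centralizer (H : Hyp G p) {w : G} (hw : orderOf w = 2) :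
    ¬ p ∣ Nat.card (Subgroup.centralizer ({w} : Set G)) := by
  haveI : Fact (Nat.Prime 2) := ⟨Nat.prime_two⟩
  haveI := Fintype.ofFinite G
  exact not_dvd_centralizer (q := 2) (fun g h1 h2 hd =>
    (Nat.not_even_iff_odd.mpr (H.odd_cent g h1 h2)) (even_iff_two_dvd.mpr hd))
    (orderOf_two hw).2 ⟨1, by rw [hw, pow_one]⟩

end Sylow

section Action

variable [Finite G] {p : ℕ} [hp : Fact p.Prime] {Ω : Type v} [MulAction G Ω] [FaithfulSMul G Ω]
  [Finite Ω] [hT : MulAction.IsPretransitive G Ω] {r : ℕ}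

theorem Hyp.regular (H : Hyp G p) (hΩ : Nat.card Ω = p ^ r) (P : Sylow p G) :
    Nat.card (P : Subgroup G) = p ^ r ∧ (∀ a b : Ω, ∃ y ∈ (P : Subgroup G), y • a = b) ∧
      ∀ y ∈ (P : Subgroup G), ∀ a : Ω, y • a = a → y = 1 := by
  classical
  have horb : ∀ a : Ω, ∀ b : Ω, b ∈ MulAction.orbit (P : Subgroup G) a := by
    intro a
    have h1 := (MulAction.stabilizer (P : Subgroup G) a).index_mul_card
    rw [MulAction.index_stabilizer, ← Nat.card_coe_set_eq] at h1
    have h2 : Nat.card (MulAction.stabilizer (P : Subgroup G) a) ∣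
        Nat.card (MulAction.stabilizer G a) :=
      Subgroup.card_dvd_of_injective
        ({ toFun := fun y => ⟨((y : (P : Subgroup G)) : G), y.2⟩
           map_one' := rfl
           map_mul' := fun _ _ => rfl } :
          ↥(MulAction.stabilizer (P : Subgroup G) a) →* ↥(MulAction.stabilizer G a))
        (fun x y hxy => by
          refine Subtype.ext (Subtype.ext ?_)
          exact congrArg (fun t : ↥(MulAction.stabilizer G a) => (t : G)) hxy)
    have h3 := (MulAction.stabilizer G a).index_mul_card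
    rw [MulAction.index_stabilizer_of_transitive, hΩ] at h3
    obtain ⟨k, hk⟩ := (P.isPGroup'.to_subgroup (MulAction.stabilizer (P : Subgroup G) a)).exists_card_eq
    have h4 : p ^ (r + k) ∣ Nat.card G := by
      rw [pow_add, ← h3, ← hk]
      exact mul_dvd_mul_left _ h2
    have h5 : p ^ (r + k) ∣ Nat.card (P : Subgroup G) := P.pow_dvd_card_of_pow_dvd_card h4
    rw [← h1, hk, pow_add] at h5
    have h6 := Nat.dvd_of_mul_dvd_mul_right (pow_pos hp.out.pos k) h5
    have h7 : MulAction.orbit (P : Subgroup G) a = Set.univ :=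
      Set.eq_of_subset_of_ncard_le (Set.subset_univ _) (by
        rw [Set.ncard_univ, hΩ, ← Nat.card_coe_set_eq]
        exact Nat.le_of_dvd (Nat.card_pos_iff.mpr ⟨⟨⟨a, MulAction.mem_orbit_self a⟩⟩, inferInstance⟩) h6)
    intro b
    rw [h7]; trivial
  have hfree : ∀ y ∈ (P : Subgroup G), ∀ a : Ω, y • a = a → y = 1 := by
    intro y hy a hya
    refine FaithfulSMul.eq_of_smul_eq_smul (α := Ω) fun b => ?_
    obtain ⟨⟨z, hz⟩, rfl⟩ := horb a b
    show y • (z • a) = (1 : G) • (z • a)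
    rw [one_smul, smul_smul, H.comm P hy hz, ← smul_smul, hya]
  refine ⟨?_, fun a b => ?_, hfree⟩
  · haveI : Nonempty Ω := by
      have : 0 < Nat.card Ω := hΩ ▸ pow_pos hp.out.pos r
      exact (Nat.card_pos_iff.mp this).1
    obtain ⟨a⟩ := ‹Nonempty Ω›
    rw [← hΩ]
    refine Nat.card_congr (Equiv.ofBijective (fun y : (P : Subgroup G) => (y : G) • a) ⟨?_, ?_⟩)
    · intro x y hxy
      have h := hfree _ (mul_mem (inv_mem y.2) x.2) a (by
        rw [← smul_smul]
        show (y : G)⁻¹ • ((x : G) • a) = a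
        rw [show (x : G) • a = (y : G) • a from hxy, inv_smul_smul])
      exact Subtype.ext (inv_mul_eq_one.mp h).symm
    · intro b
      obtain ⟨y, hy⟩ := horb a b
      exact ⟨y, hy⟩
  · obtain ⟨y, hy⟩ := horb a b
    exact ⟨y, y.2, hy⟩

theorem Hyp.factorization_eq (H : Hyp G p) (hΩ : Nat.card Ω = p ^ r) :
    (Nat.card G).factorization p = r := by
  obtain ⟨P⟩ : Nonempty (Sylow p G) := inferInstance
  have h := (H.regular hΩ P).1
  rw [Sylow.card_eq_multiplicity] at h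
  exact Nat.pow_right_injective hp.out.two_le h

theorem Hyp.not_dvd_of_fix (H : Hyp G p) (hΩ : Nat.card Ω = p ^ r) {g : G} {a : Ω}
    (hga : g • a = a) : ¬ p ∣ orderOf g := by
  intro hd
  have h1 : p ∣ Nat.card (MulAction.stabilizer G a) := hd.trans (Subgroup.orderOf_dvd_natCard _ hga)
  have h2 : p ^ (r + 1) ∣ Nat.card G := by
    rw [← (MulAction.stabilizer G a).index_mul_card, MulAction.index_stabilizer_of_transitive, hΩ,
      pow_succ]
    exact mul_dvd_mul_left _ h1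
  have := (hp.out.pow_dvd_iff_le_factorization Nat.card_pos.ne').mp h2
  rw [H.factorization_eq hΩ] at this
  omega

theorem Hyp.centralizer_le_normalizer (H : Hyp G p) (hΩ : Nat.card Ω = p ^ r) (P : Sylow p G) {y : G}
    (hy : y ∈ (P : Subgroup G)) (hy1 : y ≠ 1) :
    Subgroup.centralizer ({y} : Set G) ≤ Subgroup.normalizer ((P : Subgroup G) : Set G) := by
  classical
  obtain ⟨-, htr, hfree⟩ := H.regular hΩ P
  obtain ⟨k, hk⟩ := IsPGroup.iff_orderOf.mp P.isPGroup' ⟨y, hy⟩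
  rw [← Subgroup.orderOf_coe] at hk
  set C := Subgroup.centralizer ({y} : Set G) with hC
  have hPC : (P : Subgroup G) ≤ C := fun z hz =>
    Subgroup.mem_centralizer_singleton_iff.mpr (H.comm P hz hy)
  haveI : Group.IsSolvable C :=
    OddFT.odd_solvable_of_no_min OddFT.no_minSimple (H.odd_cent y hy1 ⟨k, hk⟩)
  have hps : IsPSolvable p C := isPSolvable_of_isSolvable hp.out _ rfl inferInstance
  haveI : (pPrimeCore p C).Normal := Cfsg.Agent.Solv.pPrimeCore_normal p
  set π := QuotientGroup.mk' (pPrimeCore p C) with hπ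
  have hMc := Fusion.card_pPrimeCore_coprime p C
  have hcore : pPrimeCore p C = ⊥ := by
    rw [Subgroup.eq_bot_iff_forall]
    intro n hn
    refine Subtype.ext (FaithfulSMul.eq_of_smul_eq_smul (α := Ω) fun a => ?_)
    show (n : G) • a = (1 : G) • a
    rw [one_smul]
    obtain ⟨z, hz, hza⟩ := htr a ((n : G) • a)
    suffices hz1 : z = 1 by rw [← hza, hz1, one_smul]
    set w : C := ⟨z, hPC hz⟩⁻¹ * n with hw
    have hwfix : (w : G) • a = a := by
      show (z⁻¹ * (n : G)) • a = a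
      rw [← smul_smul, ← hza, inv_smul_smul]
    have hwp : ¬ p ∣ orderOf w := by
      rw [← Subgroup.orderOf_coe]; exact H.not_dvd_of_fix hΩ hwfix
    have hπn : π n = 1 := (QuotientGroup.eq_one_iff _).mpr hn
    have hπw : π w = (π ⟨z, hPC hz⟩)⁻¹ := by rw [hw, map_mul, hπn, mul_one, map_inv]
    have hone : π w = 1 := by
      rw [← orderOf_eq_one_iff]
      obtain ⟨j, hj⟩ := IsPGroup.iff_orderOf.mp P.isPGroup' ⟨z, hz⟩
      rw [← Subgroup.orderOf_coe] at hj
      refine Nat.eq_one_of_dvd_coprimes ?_ (orderOf_map_dvd π w)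
        (show orderOf (π w) ∣ p ^ j from ?_)
      · exact Nat.Coprime.pow_right j ((hp.out.coprime_iff_not_dvd.mpr hwp).symm)
      · rw [hπw, orderOf_inv, ← hj]
        refine (orderOf_map_dvd π _).trans ?_
        rw [← Subgroup.orderOf_coe]
    rw [hπw, inv_eq_one] at hone
    have hzM : (⟨z, hPC hz⟩ : C) ∈ pPrimeCore p C := (QuotientGroup.eq_one_iff _).mp hone
    obtain ⟨j, hj⟩ := IsPGroup.iff_orderOf.mp P.isPGroup' ⟨z, hz⟩
    rw [← Subgroup.orderOf_coe] at hj
    rw [← orderOf_eq_one_iff]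
    refine Nat.eq_one_of_dvd_coprimes (hMc.pow_right j) ?_ (dvd_of_eq hj)
    have := Subgroup.orderOf_dvd_natCard _ hzM
    rwa [← Subgroup.orderOf_coe] at this
  have hcc := centralizer_pCore_le_of_pSolvable hps hcore
  set P' : Sylow p C := P.subtype hPC with hP'
  have hPeq : (P' : Subgroup C) = (P : Subgroup G).subgroupOf C := P.coe_subtype hPC
  have hle : (P' : Subgroup C) ≤ pCore p C := by
    refine le_trans ?_ hcc
    intro z hz
    rw [Subgroup.mem_centralizer_iff]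
    intro q hq
    have hq' := Fusion.pCore_le_sylow P' hq
    rw [hPeq, Subgroup.mem_subgroupOf] at hq' hz
    exact Subtype.ext (H.comm P hq' hz)
  have heq : (P' : Subgroup C) = pCore p C := le_antisymm hle (Fusion.pCore_le_sylow P')
  haveI : ((P : Subgroup G).subgroupOf C).Normal := by
    rw [← hPeq, heq]; exact Cfsg.Agent.Solv.pCore_normal p
  exact (Subgroup.normal_subgroupOf_iff_le_normalizer hPC).mp inferInstance

theorem Hyp.unique_sylow (H : Hyp G p) (hΩ : Nat.card Ω = p ^ r) (P Q : Sylow p G) {y : G}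
    (hP : y ∈ (P : Subgroup G)) (hQ : y ∈ (Q : Subgroup G)) (hy1 : y ≠ 1) : Q = P := by
  have h1 : (Q : Subgroup G) ≤ Subgroup.normalizer ((P : Subgroup G) : Set G) :=
    le_trans (fun z hz => Subgroup.mem_centralizer_singleton_iff.mpr (H.comm Q hz hQ))
      (H.centralizer_le_normalizer hΩ P hP hy1)
  have h2 : (Q : Subgroup G) ⊓ Subgroup.normalizer ((P : Subgroup G) : Set G) = (Q : Subgroup G) ⊓ P :=
    IsPGroup.inf_normalizer_sylow Q.isPGroup' P
  rw [inf_eq_left.mpr h1] at h2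
  have h3 : (Q : Subgroup G) ≤ P := h2.le.trans inf_le_right
  exact (Sylow.ext (Q.is_maximal' P.isPGroup' h3)).symm

theorem Hyp.mem_normalizer_of_conj (H : Hyp G p) (hΩ : Nat.card Ω = p ^ r) (P : Sylow p G) {y g : G}
    (hy : y ∈ (P : Subgroup G)) (hy1 : y ≠ 1) (hg : g * y * g⁻¹ ∈ (P : Subgroup G)) :
    g ∈ Subgroup.normalizer ((P : Subgroup G) : Set G) := by
  refine Sylow.smul_eq_iff_mem_normalizer.mp (H.unique_sylow hΩ P (g • P) hg ?_ fun h => hy1 (conj_eq_one_iff.mp h))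
  rw [Sylow.coe_subgroup_smul]
  exact ⟨y, hy, rfl⟩

theorem Hyp.exists_inverted (H : Hyp G p) (hΩ : Nat.card Ω = p ^ r) {w : G} (hw : orderOf w = 2) :
    ∃ P : Sylow p G, w ∈ Subgroup.normalizer ((P : Subgroup G) : Set G) ∧
      ∀ y ∈ (P : Subgroup G), w * y * w⁻¹ = y⁻¹ := by
  haveI := Fintype.ofFinite G
  obtain ⟨P₀⟩ : Nonempty (Sylow p G) := inferInstance
  by_contra hno
  have ha : (Nat.card ↥(Subgroup.centralizer ({w} : Set G))).factorization p = 0 :=
    Nat.factorization_eq_zero_of_not_dvd (H.involution_centralizer hw)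
  obtain ⟨χ, hχ⟩ := Cfsg.Agent.S4740.result p H.ne_two (even_iff_two_dvd.mpr H.two_dvd) w hw
    (P₀ : Subgroup G) r (H.regular hΩ P₀).1 (fun g hg z hz hz1 hgz => by
      obtain ⟨k, rfl⟩ := isConj_iff.mp hg
      refine hno ⟨k⁻¹ • P₀, ?_⟩
      have hz' : k⁻¹ * z * k ∈ ((k⁻¹ • P₀ : Sylow p G) : Subgroup G) := by
        rw [Sylow.coe_subgroup_smul]
        exact ⟨z, hz, by simp⟩
      have hz1' : k⁻¹ * z * k ≠ 1 := fun h => hz1 (by
        calc z = k * (k⁻¹ * z * k) * k⁻¹ := by group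
          _ = 1 := by rw [h]; group)
      have hwz : w * (k⁻¹ * z * k) * w⁻¹ = (k⁻¹ * z * k)⁻¹ := by
        calc w * (k⁻¹ * z * k) * w⁻¹ = k⁻¹ * (k * w * k⁻¹ * z * (k * w * k⁻¹)⁻¹) * k := by group
          _ = _ := by rw [hgz]; group
      have hn := H.mem_normalizer_of_conj hΩ _ hz' hz1' (hwz ▸ inv_mem hz')
      exact ⟨hn, inverts_of_fpf (orderOf_two hw).1 hn fun y hy hwy => by
        by_contra hy1; exact H.not_commute _ hy hy1 hw hwy⟩) 0 ha
  refine H.no_defect_zero ⟨χ, le_antisymm ?_ ?_⟩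
  · exact (Nat.factorization_le_iff_dvd (deg_pos χ.2).ne' Nat.card_pos.ne').mpr (deg_dvd_card χ.2) p
  · rw [H.factorization_eq hΩ]
    exact (hp.out.pow_dvd_iff_le_factorization (deg_pos χ.2).ne').mp (show p ^ r ∣ Cfsg.charDegree (χ : G → ℂ) by simpa using hχ)

theorem Hyp.existsUnique_fixed (H : Hyp G p) (hΩ : Nat.card Ω = p ^ r) {w : G} (hw : orderOf w = 2) :
    ∃! a : Ω, w • a = a := by
  obtain ⟨P, hwP, hinv⟩ := H.exists_inverted hΩ hw
  obtain ⟨hcard, htr, hfree⟩ := H.regular hΩ P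
  haveI : Nonempty Ω := by
    have : 0 < Nat.card Ω := hΩ ▸ pow_pos hp.out.pos r
    exact (Nat.card_pos_iff.mp this).1
  obtain ⟨a⟩ := ‹Nonempty Ω›
  obtain ⟨y, hy, hya⟩ := htr a (w • a)
  have hodd : Odd (orderOf y) := by
    obtain ⟨k, hk⟩ := IsPGroup.iff_orderOf.mp P.isPGroup' ⟨y, hy⟩
    rw [← Subgroup.orderOf_coe] at hk
    rw [hk]; exact (hp.out.odd_of_ne_two H.ne_two).pow
  obtain ⟨k, hk⟩ := exists_sqrt hodd
  have hmove : ∀ z ∈ (P : Subgroup G), ∀ b : Ω, w • z • b = z⁻¹ • w • b := fun z hz b => by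
    rw [smul_smul, smul_smul, ← hinv z hz, inv_mul_cancel_right]
  have hc : w • (y ^ k • a) = y ^ k • a := by
    rw [hmove _ (pow_mem hy k), ← hya, smul_smul]
    congr 1
    rw [inv_mul_eq_iff_eq_mul, hk]
  refine ⟨y ^ k • a, hc, fun b hb => ?_⟩
  obtain ⟨z, hz, rfl⟩ := htr (y ^ k • a) b
  rw [hmove z hz, hc] at hb
  have hz2 : (z⁻¹)⁻¹ * z = 1 := by
    refine hfree _ (mul_mem (inv_mem (inv_mem hz)) hz) (y ^ k • a) ?_
    rw [inv_inv, ← smul_smul, ← hb, smul_inv_smul]
  rw [inv_inv] at hz2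
  have : z = 1 := by
    have h1 : orderOf z ∣ 2 := orderOf_dvd_of_pow_eq_one (by rw [pow_two, hz2])
    obtain ⟨j, hj⟩ := IsPGroup.iff_orderOf.mp P.isPGroup' ⟨z, hz⟩
    rw [← Subgroup.orderOf_coe] at hj
    rw [← orderOf_eq_one_iff]
    exact Nat.eq_one_of_dvd_coprimes (((hp.out.coprime_iff_not_dvd).mpr fun h =>
      H.ne_two ((Nat.prime_dvd_prime_iff_eq hp.out Nat.prime_two).mp h)).pow_left j) (dvd_of_eq hj) h1
  rw [this, one_smul]

theorem Hyp.same_fixed (H : Hyp G p) (hΩ : Nat.card Ω = p ^ r) {w z : G} (hw : orderOf w = 2)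
    (hz : orderOf z = 2) (hc : w * z = z * w) {a : Ω} (ha : w • a = a) : z • a = a :=
  (H.existsUnique_fixed hΩ hw).unique (by rw [smul_smul, hc, ← smul_smul, ha]) ha

end Action

end Cfsg.Agent.OddCent
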