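import Cfsg.Agent.Lib.Char.DefectZeroProduct

/-!
# Class multiplication coefficients modulo `p` without characters of defect zero
-/

set_option autoImplicit false
set_option linter.unusedSectionVars false

namespace Cfsg.Agent.OddCent

open Cfsg Cfsg.Agent.Char
open scoped ComplexConjugate

universe u

variable {G : Type u} [Group G] [Fintype G]

/-- Without characters of defect zero, the coefficients of the square of a class sum of defect zero
are divisible by `p`. -/
theorem dvd_card_pairs {p : ℕ} [hp : Fact p.Prime]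
    (hdz : ¬ ∃ χ : IrrCharacter G,
      (charDegree (χ : G → ℂ)).factorization p = (Nat.card G).factorization p)
    {u : G} (hu : ¬ p ∣ Nat.card (Subgroup.centralizer ({u} : Set G))) (x : G) :
    p ∣ Nat.card {v : G // IsConj u v ∧ IsConj u (v * x)} := by
  classical
  set C := Nat.card (Subgroup.centralizer ({u} : Set G)) with hC
  set N := Nat.card {v : G // IsConj u v ∧ IsConj u (v * x)} with hN
  have he : ∀ χ : IrrCharacter G, ∃ e : ℕ, deg (χ : G → ℂ) * (p * e) = Nat.card G := fun χ => by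
    obtain ⟨c, hc⟩ := deg_dvd_card χ.2
    have hc0 : c ≠ 0 := fun h0 => Nat.card_pos.ne' (by rw [hc, h0, mul_zero])
    obtain ⟨e, rfl⟩ : p ∣ c := by
      by_contra hd
      exact hdz ⟨χ, by
        show (deg (χ : G → ℂ)).factorization p = _
        rw [hc, Nat.factorization_mul (deg_pos χ.2).ne' hc0, Finsupp.add_apply,
          Nat.factorization_eq_zero_of_not_dvd hd, add_zero]⟩
    exact ⟨e, hc.symm⟩
  choose e he using he
  set β := ∑ χ : IrrCharacter G,
    conj ((χ : G → ℂ) u) * (χ : G → ℂ) u * (χ : G → ℂ) x * (e χ : ℂ) with hβ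
  have hβi : IsIntegral ℤ β := IsIntegral.sum _ fun χ _ => by
    rw [← char_inv (irr_isCharacter χ.2)]
    exact (((char_isIntegral (irr_isCharacter χ.2) _).mul (char_isIntegral (irr_isCharacter χ.2) _)).mul
      (char_isIntegral (irr_isCharacter χ.2) _)).mul (isIntegral_natC _)
  have hterm : ∀ χ : IrrCharacter G,
      (p : ℂ) * (conj ((χ : G → ℂ) u) * (χ : G → ℂ) u * (χ : G → ℂ) x * (e χ : ℂ)) =
        conj ((χ : G → ℂ) u) * ∑ t : G, (χ : G → ℂ) ((t * u * t⁻¹) * x) := by
    intro χ
    have h1 := sum_conj_mul χ.2 x u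
    have h2 : (χ : G → ℂ) 1 ≠ 0 := irr_one_ne_zero χ.2
    have h3 : ∑ t : G, (χ : G → ℂ) ((t * u * t⁻¹) * x) = ∑ t : G, (χ : G → ℂ) (x * (t * u * t⁻¹)) :=
      Finset.sum_congr rfl fun t _ => by
        have h := isClassFunction_character (irr_isCharacter χ.2) (x * (t * u * t⁻¹)) x⁻¹
        rw [← h]
        congr 1
        group
    rw [h3]
    have h4 : ∑ t : G, (χ : G → ℂ) (x * (t * u * t⁻¹)) = (p : ℂ) * (e χ : ℂ) * ((χ : G → ℂ) x * (χ : G → ℂ) u) := by
      refine mul_left_cancel₀ h2 ?_
      rw [h1, ← he χ, char_one_eq_deg (irr_isCharacter χ.2)]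
      push_cast
      ring
    rw [h4]
    ring
  have hK : (Nat.card G : ℂ) / Nat.card {y : G // IsConj u y} = (C : ℂ) := by
    rw [div_eq_iff (Nat.cast_ne_zero.mpr (card_conjClass_ne_zero u)), ← Nat.cast_mul, hC,
      mul_comm (Nat.card (Subgroup.centralizer ({u} : Set G))), card_conjClass_mul_centralizer]
  -- the number of `t` with a given conjugate
  have hfib : ∀ v : G, IsConj u v →
      (Finset.univ.filter fun t : G => t * u * t⁻¹ = v).card = C := by
    intro v hv
    obtain ⟨a, rfl⟩ := isConj_iff.mp hv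
    rw [hC, Nat.card_eq_fintype_card, ← Finset.card_univ]
    refine Finset.card_bij' (fun t ht => (⟨a⁻¹ * t, ?_⟩ : Subgroup.centralizer ({u} : Set G)))
      (fun c _ => a * c.1) (fun t _ => Finset.mem_univ _) (fun c _ => ?_) (fun t _ => by simp)
      (fun c _ => Subtype.ext (by simp))
    · have h := (Finset.mem_filter.mp ht).2
      refine Subgroup.mem_centralizer_singleton_iff.mpr ?_
      calc a⁻¹ * t * u = a⁻¹ * (t * u * t⁻¹) * t := by group
        _ = a⁻¹ * (a * u * a⁻¹) * t := by rw [h]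
        _ = u * (a⁻¹ * t) := by group
    · have h := Subgroup.mem_centralizer_singleton_iff.mp c.2
      rw [Finset.mem_filter]
      refine ⟨Finset.mem_univ _, ?_⟩
      calc a * c.1 * u * (a * c.1)⁻¹ = a * (c.1 * u) * (a * c.1)⁻¹ := by group
        _ = a * u * a⁻¹ := by rw [h]; group
  have hcount : (Finset.univ.filter fun t : G => IsConj u ((t * u * t⁻¹) * x)).card = C * N := by
    rw [Finset.card_eq_sum_card_fiberwise (f := fun t : G => t * u * t⁻¹)
      (t := Finset.univ.filter fun v : G => IsConj u v ∧ IsConj u (v * x))]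
    · rw [Finset.sum_congr rfl fun v hv => show _ = C from ?_, Finset.sum_const, smul_eq_mul, hN,
        Nat.card_eq_fintype_card, Fintype.card_subtype, mul_comm]
      obtain ⟨-, hv1, hv2⟩ := Finset.mem_filter.mp hv
      rw [Finset.filter_filter, ← hfib v hv1]
      refine congrArg Finset.card (Finset.filter_congr fun t _ => ⟨fun h => h.2, fun h => ⟨?_, h⟩⟩)
      rw [h]; exact hv2
    · intro t ht
      simp only [Finset.coe_filter, Finset.mem_univ, true_and, Set.mem_setOf_eq] at ht ⊢
      exact ⟨isConj_iff.mpr ⟨t, rfl⟩, ht⟩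
  have hkey : (p : ℂ) * β = ((C * (C * N) : ℕ) : ℂ) := by
    rw [hβ, Finset.mul_sum, Finset.sum_congr rfl fun χ _ => hterm χ]
    simp only [Finset.mul_sum]
    rw [Finset.sum_comm, ← hcount]
    have h1 : ∀ t : G, ∑ χ : IrrCharacter G, conj ((χ : G → ℂ) u) * (χ : G → ℂ) ((t * u * t⁻¹) * x) =
        if IsConj u ((t * u * t⁻¹) * x) then (C : ℂ) else 0 := by
      intro t
      rw [Finset.sum_congr rfl fun χ _ => mul_comm _ _, second_orth, hK]
      by_cases h : IsConj u ((t * u * t⁻¹) * x)
      · rw [if_pos h, if_pos h.symm]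
      · rw [if_neg h, if_neg fun h' => h h'.symm]
    rw [Finset.sum_congr rfl fun t _ => h1 t, ← Finset.sum_filter, Finset.sum_const, nsmul_eq_mul,
      Nat.cast_mul]
    ring
  set a := C * (C * N) with ha
  have hβr : ((a : ℚ) / p : ℚ) = β := by
    have h1 : (p : ℂ) ≠ 0 := Nat.cast_ne_zero.mpr hp.out.ne_zero
    push_cast
    rw [div_eq_iff h1, mul_comm, hkey]
  obtain ⟨b, hb⟩ := isIntegral_rat_cast_imp (hβr ▸ hβi)
  have hbz : (a : ℤ) = b * p := by
    have : (a : ℚ) = (b : ℚ) * p := by
      rw [hb, div_mul_cancel₀ _ (Nat.cast_ne_zero.mpr hp.out.ne_zero)]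
    exact_mod_cast this
  have hdvd : p ∣ a := Int.natCast_dvd_natCast.mp ⟨b, by rw [hbz, mul_comm]⟩
  exact ((hp.out.dvd_mul.mp hdvd).resolve_left hu |> hp.out.dvd_mul.mp).resolve_left hu

end Cfsg.Agent.OddCent
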