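import Cfsg.Agent.Lib.Char.OddCent.Basic
import Cfsg.Agent.Lib.Char.OddCent.Coeff
import Cfsg.Agent.Lib.Char.ZStar
import Cfsg.Agent.Lib.Solv.PSolvExtension

/-!
# The dichotomy: defect zero or `p`-solvable
-/

set_option autoImplicit false
set_option linter.unusedSectionVars false
set_option linter.style.haveILetI false

namespace Cfsg.Agent.OddCent

open Cfsg Cfsg.Agent.Char

universe u v

variable {G : Type u} [Group G] [Finite G] {p : ℕ} [hp : Fact p.Prime] {Ω : Type v} [MulAction G Ω]
  [FaithfulSMul G Ω] [Finite Ω] [hT : MulAction.IsPretransitive G Ω] {r : ℕ}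

/-- A power of a product of two involutions of even order is a commuting involution. -/
theorem exists_between {a b : G} (ha : a * a = 1) (hb : b * b = 1) (h : ¬ Odd (orderOf (a * b))) :
    ∃ m : ℕ, orderOf ((a * b) ^ m) = 2 ∧ a * (a * b) ^ m = (a * b) ^ m * a ∧
      b * (a * b) ^ m = (a * b) ^ m * b := by
  obtain ⟨m, hm⟩ := Nat.not_odd_iff_even.mp h
  have hpos := orderOf_pos (a * b)
  have h2 : orderOf ((a * b) ^ m) = 2 := by
    rw [orderOf_pow, Nat.gcd_eq_right ⟨2, by omega⟩, hm, show m + m = 2 * m by omega,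
      Nat.mul_div_cancel _ (by omega)]
  have hz : (a * b) ^ m * (a * b) ^ m = 1 := by rw [← pow_add, ← hm, pow_orderOf_eq_one]
  have hzi := inv_eq_of_mul_eq_one_right hz
  have hai := inv_eq_of_mul_eq_one_right ha
  have hbi := inv_eq_of_mul_eq_one_right hb
  have e1 : a * (a * b) * a⁻¹ = (a * b)⁻¹ := by
    rw [mul_inv_rev, hai, hbi, ← mul_assoc, ha, one_mul]
  have e2 : b * (a * b) * b⁻¹ = (a * b)⁻¹ := by
    rw [mul_inv_rev, hai, hbi, mul_assoc, mul_assoc, hb, mul_one]
  refine ⟨m, h2, ?_, ?_⟩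
  · have h3 : a * (a * b) ^ m * a⁻¹ = (a * b) ^ m := by rw [← conj_pow, e1, inv_pow, hzi]
    exact mul_inv_eq_iff_eq_mul.mp h3
  · have h3 : b * (a * b) ^ m * b⁻¹ = (a * b) ^ m := by rw [← conj_pow, e2, inv_pow, hzi]
    exact mul_inv_eq_iff_eq_mul.mp h3

/-- No involution inverts a nontrivial element of odd order fixing a point but not its fixed point. -/
theorem Hyp.no_avoiding (H : Hyp G p) (hΩ : Nat.card Ω = p ^ r) {w x : G} (hw : orderOf w = 2)
    (hx1 : x ≠ 1) (hxo : Odd (orderOf x)) (hinv : w * x * w⁻¹ = x⁻¹) {b c : Ω} (hb : x • b = b)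
    (hc : w • c = c) (hxc : x • c ≠ c) : False := by
  classical
  haveI := Fintype.ofFinite G
  obtain ⟨hw2, -⟩ := orderOf_two hw
  have hxsq : x * x = 1 → False := fun h => hx1 (by
    rw [← orderOf_eq_one_iff]
    exact Nat.eq_one_of_dvd_coprimes (Nat.coprime_two_left.mpr hxo)
      (orderOf_dvd_of_pow_eq_one (by rw [pow_two, h])) dvd_rfl)
  set C := Subgroup.centralizer ({x} : Set G) with hC
  have hCodd : Odd (Nat.card C) := by
    by_contra hev
    haveI : Fact (Nat.Prime 2) := ⟨Nat.prime_two⟩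
    obtain ⟨⟨e, he⟩, hord⟩ :=
      exists_prime_orderOf_dvd_card' (G := C) 2 (even_iff_two_dvd.mp (Nat.not_odd_iff_even.mp hev))
    rw [Subgroup.orderOf_mk] at hord
    have hex : e * x = x * e := Subgroup.mem_centralizer_singleton_iff.mp he
    obtain ⟨he2, -⟩ := orderOf_two hord
    have hei := inv_eq_of_mul_eq_one_right he2
    have hwi := inv_eq_of_mul_eq_one_right hw2
    by_cases hodd : Odd (orderOf (w * e))
    · obtain ⟨k, hk⟩ := exists_conj_inverted (w := e) he2 hodd (by
        rw [mul_inv_rev, hei, hwi, mul_assoc, mul_assoc, he2, mul_one])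
      rw [mul_assoc w e e, he2, mul_one] at hk
      set g := (w * e) ^ k with hg
      set S := Subgroup.zpowers x with hS
      have hmemN : ∀ a : G, a * x * a⁻¹ ∈ S → a ∈ Subgroup.normalizer (S : Set G) := fun a ha => by
        refine Cfsg.Agent.Solv.mem_normalizer_of_conj_smul ?_
        refine Subgroup.eq_of_le_of_card_ge ?_ (Cfsg.Agent.Solv.card_conj_smul _ _).ge
        rw [hS, Cfsg.Agent.Solv.conj_smul_eq_map, MonoidHom.map_zpowers]
        exact Subgroup.zpowers_le.mpr ha
      have hgN : g ∈ Subgroup.normalizer (S : Set G) :=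
        pow_mem (mul_mem (hmemN w (hinv ▸ inv_mem (Subgroup.mem_zpowers x)))
          (hmemN e (by rw [hex, mul_inv_cancel_right]; exact Subgroup.mem_zpowers x))) k
      have h1 : g⁻¹ * x * g ∈ S :=
        (Subgroup.mem_normalizer_iff''.mp hgN x).mp (Subgroup.mem_zpowers x)
      obtain ⟨j, hj⟩ := Subgroup.mem_zpowers_iff.mp h1
      have h2 : Commute e (g⁻¹ * x * g) := hj ▸ (Commute.zpow_right hex j)
      have h3 : w * x = x * w := by
        rw [← hk]
        calc g * e * g⁻¹ * x = g * (e * (g⁻¹ * x * g)) * g⁻¹ := by group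
          _ = g * ((g⁻¹ * x * g) * e) * g⁻¹ := by rw [h2.eq]
          _ = x * (g * e * g⁻¹) := by group
      rw [h3, mul_inv_cancel_right] at hinv
      exact hxsq (eq_inv_iff_mul_eq_one.mp hinv)
    · obtain ⟨m, hm, hwm, hem⟩ := exists_between hw2 he2 hodd
      set z := (w * e) ^ m
      have hzc : z • c = c := H.same_fixed hΩ hw hm hwm hc
      have hec : e • c = c := H.same_fixed hΩ hm hord hem.symm hzc
      refine hxc ((H.existsUnique_fixed hΩ hord).unique ?_ hec)
      rw [smul_smul, hex, ← smul_smul, hec]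
  have hCp : ¬ p ∣ Nat.card C := by
    intro hd
    have hwN : w ∈ Subgroup.normalizer (C : Set G) := by
      rw [Subgroup.mem_normalizer_iff]
      intro h
      have key : ∀ h : G, h ∈ C → w * h * w⁻¹ ∈ C := fun h hh => by
        rw [hC, Subgroup.mem_centralizer_singleton_iff] at hh ⊢
        have h1 : w * h * w⁻¹ * x⁻¹ = x⁻¹ * (w * h * w⁻¹) := by
          rw [← hinv]
          calc w * h * w⁻¹ * (w * x * w⁻¹) = w * (h * x) * w⁻¹ := by group
            _ = w * (x * h) * w⁻¹ := by rw [hh]
            _ = _ := by group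
        calc w * h * w⁻¹ * x = x * (x⁻¹ * (w * h * w⁻¹)) * x := by group
          _ = x * (w * h * w⁻¹ * x⁻¹) * x := by rw [h1]
          _ = x * (w * h * w⁻¹) := by group
      refine ⟨key h, fun hh => ?_⟩
      have h1 := key _ hh
      have hwi := inv_eq_of_mul_eq_one_right hw2
      rw [show w * (w * h * w⁻¹) * w⁻¹ = (w * w) * h * (w * w)⁻¹ by group, hw2] at h1
      simpa using h1
    obtain ⟨Y, hY, hYw⟩ := Cfsg.Agent.Solv.exists_invariant_sylow (A := Subgroup.zpowers w) (K := C)
      (Subgroup.zpowers_le.mpr hwN)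
      (by rw [Nat.card_zpowers, hw]; exact Nat.coprime_two_left.mpr hCodd) (Or.inl inferInstance) p
    obtain ⟨P, hP⟩ := hY.isPGroup.exists_le_sylow
    have hY1 : Y ≠ ⊥ := by
      intro h0
      have h1 := hY.2
      rw [h0, Subgroup.card_bot] at h1
      have h2 := (Nat.Prime.dvd_iff_one_le_factorization hp.out Nat.card_pos.ne').mp hd
      have h3 := Nat.one_lt_pow (show (Nat.card C).factorization p ≠ 0 by omega) hp.out.one_lt
      omega
    obtain ⟨y, hy, hy1⟩ := (Subgroup.bot_or_exists_ne_one Y).resolve_left hY1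
    have hyP := hP hy
    have hwy : w * y * w⁻¹ ∈ (P : Subgroup G) :=
      hP ((Subgroup.mem_normalizer_iff.mp (hYw (Subgroup.mem_zpowers w)) y).mp hy)
    have hwP := H.mem_normalizer_of_conj hΩ P hyP hy1 hwy
    have hxP : x ∈ Subgroup.normalizer ((P : Subgroup G) : Set G) :=
      H.centralizer_le_normalizer hΩ P hyP hy1 (Subgroup.mem_centralizer_singleton_iff.mpr
        (Subgroup.mem_centralizer_singleton_iff.mp (hY.1 hy)).symm)
    have hinvP : ∀ a ∈ (P : Subgroup G), w * a * w⁻¹ = a⁻¹ :=
      inverts_of_fpf hw2 hwP fun a ha hwa => by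
        by_contra ha1; exact H.not_commute P ha ha1 hw hwa
    obtain ⟨-, htr, hfree⟩ := H.regular hΩ P
    refine hxsq ?_
    refine FaithfulSMul.eq_of_smul_eq_smul (α := Ω) fun d => ?_
    obtain ⟨a, ha, rfl⟩ := htr b d
    have hxa : x⁻¹ * a * x = x * a * x⁻¹ := by
      have h1 : w * a⁻¹ * w⁻¹ = a := by rw [hinvP _ (inv_mem ha), inv_inv]
      have h2 := hinvP _ ((Subgroup.mem_normalizer_iff.mp hxP _).mp (inv_mem ha))
      calc x⁻¹ * a * x = (w * x * w⁻¹) * (w * a⁻¹ * w⁻¹) * (w * x * w⁻¹)⁻¹ := by rw [h1, hinv, inv_inv]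
        _ = w * (x * a⁻¹ * x⁻¹) * w⁻¹ := by group
        _ = _ := by rw [h2]; group
    have hcom : x * x * a = a * (x * x) := by
      calc x * x * a = x * (x * a * x⁻¹) * x := by group
        _ = x * (x⁻¹ * a * x) * x := by rw [hxa]
        _ = a * (x * x) := by group
    rw [one_smul, smul_smul, hcom, ← smul_smul, ← smul_smul x x, hb, hb]
  -- the class coefficient
  refine hCp ((dvd_card_pairs H.no_defect_zero (H.involution_centralizer hw) x).trans ?_)
  letI : MulAction C G := MulAction.compHom G ((MulAut.conj (G := G)).comp C.subtype)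
  have hsmul : ∀ (k : C) (g : G), k • g = (k : G) * g * (k : G)⁻¹ := fun k g => rfl
  have hset : {v : G | IsConj w v ∧ IsConj w (v * x)} = MulAction.orbit C w := by
    ext v
    constructor
    · rintro ⟨hv, hvx⟩
      obtain ⟨a, rfl⟩ := isConj_iff.mp hv
      obtain ⟨b', hb'⟩ := isConj_iff.mp hvx
      set v := a * w * a⁻¹ with hv'
      have hv2 : v * v = 1 := by
        rw [hv', show a * w * a⁻¹ * (a * w * a⁻¹) = a * (w * w) * a⁻¹ by group, hw2, mul_one,
          mul_inv_cancel]
      have hvx2 : v * x * (v * x) = 1 := by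
        rw [← hb', show b' * w * b'⁻¹ * (b' * w * b'⁻¹) = b' * (w * w) * b'⁻¹ by group, hw2,
          mul_one, mul_inv_cancel]
      have hvi := inv_eq_of_mul_eq_one_right hv2
      have hvinv : v * x * v⁻¹ = x⁻¹ := by
        rw [hvi]
        exact eq_inv_of_mul_eq_one_left (by rw [← hvx2]; group)
      have hwi := inv_eq_of_mul_eq_one_right hw2
      have hcC : v * w ∈ C := by
        rw [hC, Subgroup.mem_centralizer_singleton_iff]
        have h1 : w * x = x⁻¹ * w := by rw [← hinv]; group
        have h2 : v * x⁻¹ = x * v := by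
          have : v * x = x⁻¹ * v := by rw [← hvinv]; group
          calc v * x⁻¹ = x * (x⁻¹ * v) * x⁻¹ := by group
            _ = x * (v * x) * x⁻¹ := by rw [this]
            _ = x * v := by group
        rw [mul_assoc, h1, ← mul_assoc, h2, mul_assoc]
      obtain ⟨k, hk⟩ := exists_conj_inverted (w := w) (g := v * w) hw2
        ((hCodd).of_dvd_nat (Subgroup.orderOf_dvd_natCard _ hcC))
        (by rw [mul_inv_rev, hwi, hvi, mul_assoc, mul_assoc, hw2, mul_one])
      refine ⟨⟨(v * w) ^ k, pow_mem hcC k⟩, ?_⟩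
      show (v * w) ^ k * w * ((v * w) ^ k)⁻¹ = v
      rw [hk, mul_assoc, hw2, mul_one]
    · rintro ⟨k, rfl⟩
      show IsConj w (k • w) ∧ IsConj w ((k • w) * x)
      rw [hsmul]
      refine ⟨isConj_iff.mpr ⟨k, rfl⟩, ?_⟩
      obtain ⟨j, hj⟩ := exists_conj_inverted (w := w) (g := x⁻¹) hw2 (by rwa [orderOf_inv])
        (by rw [inv_inv, ← conj_inv, hinv, inv_inv])
      refine isConj_iff.mpr ⟨k * x⁻¹ ^ j, ?_⟩
      have hkx : (k : G) * x = x * k := Subgroup.mem_centralizer_singleton_iff.mp k.2
      have h1 : x⁻¹ * w = w * x := by rw [← hinv]; group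
      calc (k : G) * x⁻¹ ^ j * w * ((k : G) * x⁻¹ ^ j)⁻¹
          = (k : G) * (x⁻¹ ^ j * w * (x⁻¹ ^ j)⁻¹) * (k : G)⁻¹ := by group
        _ = (k : G) * w * (x * (k : G)⁻¹) := by rw [hj, h1]; group
        _ = (k : G) * w * ((k : G)⁻¹ * x) := by
          congr 1
          calc x * (k : G)⁻¹ = (k : G)⁻¹ * ((k : G) * x) * (k : G)⁻¹ := by group
            _ = _ := by rw [hkx]; group
        _ = _ := by group
  rw [show Nat.card {v : G // IsConj w v ∧ IsConj w (v * x)} =
      ({v : G | IsConj w v ∧ IsConj w (v * x)}).ncard from Nat.card_coe_set_eq _, hset,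
    ← MulAction.index_stabilizer]
  exact Subgroup.index_dvd_card _

/-- Commuting involutions force a character of defect zero. -/
theorem Hyp.eq_of_commute (H : Hyp G p) (hΩ : Nat.card Ω = p ^ r) {a b : G} (ha : orderOf a = 2)
    (hb : orderOf b = 2) (hab : a * b = b * a) : a = b := by
  classical
  haveI := Fintype.ofFinite G
  haveI := Fintype.ofFinite Ω
  by_contra hne
  set I := Finset.univ.filter fun g : G => orderOf g = 2 with hI
  set J : Ω → Finset G := fun c => I.filter fun g => g • c = c with hJ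
  have hmemJ : ∀ c g, g ∈ J c ↔ orderOf g = 2 ∧ g • c = c := by simp [hJ, hI]
  obtain ⟨c₀, hc₀, -⟩ := H.existsUnique_fixed hΩ ha
  have hk : ∀ c, (J c).card = (J c₀).card := fun c => by
    obtain ⟨g, hg⟩ := MulAction.exists_smul_eq G c₀ c
    refine Finset.card_bij' (fun v _ => g⁻¹ * v * g) (fun v _ => g * v * g⁻¹) ?_ ?_
      (fun v _ => by group) (fun v _ => by group)
    · intro v hv
      rw [hmemJ] at hv ⊢
      refine ⟨by simpa using orderOf_conj_two hv.1 g⁻¹, ?_⟩
      rw [← smul_smul, ← smul_smul, hg, hv.2, ← hg, inv_smul_smul]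
    · intro v hv
      rw [hmemJ] at hv ⊢
      refine ⟨orderOf_conj_two hv.1 g, ?_⟩
      rw [← hg, ← smul_smul, ← smul_smul, inv_smul_smul, hv.2]
  have hIsum : I.card = Fintype.card Ω * (J c₀).card := by
    have hdisj : ((Finset.univ : Finset Ω) : Set Ω).PairwiseDisjoint J := by
      intro c _ d _ hcd
      rw [Function.onFun, Finset.disjoint_left]
      intro g hgc hgd
      rw [hmemJ] at hgc hgd
      exact hcd ((H.existsUnique_fixed hΩ hgc.1).unique hgc.2 hgd.2)
    have h : I = Finset.univ.biUnion J := by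
      ext g
      simp only [Finset.mem_biUnion, Finset.mem_univ, true_and, hmemJ]
      refine ⟨fun hg => ?_, fun ⟨_, hg, _⟩ => by simp [hI, hg]⟩
      have hg2 : orderOf g = 2 := by simpa [hI] using hg
      obtain ⟨d, hd, -⟩ := H.existsUnique_fixed hΩ hg2
      exact ⟨d, hg2, hd⟩
    rw [h, Finset.card_biUnion hdisj, Finset.sum_congr rfl fun c _ => hk c, Finset.sum_const,
      smul_eq_mul, Finset.card_univ]
  -- a point moved differently
  have hb0 : b • c₀ = c₀ := H.same_fixed hΩ ha hb hab hc₀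
  obtain ⟨d, hd⟩ : ∃ d : Ω, a • d ≠ b • d := by
    by_contra h
    push Not at h
    exact hne (FaithfulSMul.eq_of_smul_eq_smul h)
  have had : a • d ≠ d := fun h => hd (by
    rw [h, (H.existsUnique_fixed hΩ ha).unique h hc₀, hb0])
  -- all swappers of one pair share their fixed point
  have hshare : ∀ (v v' : G) (e c : Ω), orderOf v = 2 → orderOf v' = 2 → e ≠ d → v • d = e → v' • d = e →
      v • c = c → v' • c = c := by
    intro v v' e c hv hv' hed h1 h2 hvc
    by_contra hv'c
    obtain ⟨hv2, -⟩ := orderOf_two hv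
    obtain ⟨hv'2, -⟩ := orderOf_two hv'
    have hve : v • e = d := by rw [← h1, smul_smul, hv2, one_smul]
    have hv'e : v' • e = d := by rw [← h2, smul_smul, hv'2, one_smul]
    have hxd : (v * v') • d = d := by rw [← smul_smul, h2, hve]
    have hxe : (v * v') • e = e := by rw [← smul_smul, hv'e, h1]
    have hodd : Odd (orderOf (v * v')) := by
      by_contra hev
      obtain ⟨m, hm, -, -⟩ := exists_between hv2 hv'2 hev
      have hfix : ∀ {c : Ω}, (v * v') • c = c → (v * v') ^ m • c = c := fun {c} h => by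
        have : (v * v') ^ m ∈ MulAction.stabilizer G c := pow_mem (MulAction.mem_stabilizer_iff.mpr h) m
        exact this
      exact hed ((H.existsUnique_fixed hΩ hm).unique (hfix hxe) (hfix hxd))
    refine H.no_avoiding hΩ hv (fun h0 => hv'c ?_) hodd ?_ hxd hvc fun h0 => hv'c ?_
    · have : v' = v := by
        calc v' = v * v * v' := by rw [hv2, one_mul]
          _ = v := by rw [mul_assoc, h0, mul_one]
      rw [this, hvc]
    · rw [mul_inv_rev, inv_eq_of_mul_eq_one_right hv2, inv_eq_of_mul_eq_one_right hv'2, ← mul_assoc,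
        hv2, one_mul]
    · have h3 : v • ((v * v') • c) = v • c := congrArg (fun t => v • t) h0
      rwa [smul_smul, ← mul_assoc, hv2, one_mul, hvc] at h3
  have hmove : (I.filter fun g => g • d ≠ d).card + (J c₀).card = I.card := by
    rw [← hk d, hJ]
    simp only
    rw [← Finset.card_filter_add_card_filter_not (s := I) (fun g => g • d = d), add_comm]
  have hmap : ∀ g ∈ I.filter (fun g => g • d ≠ d), g • d ∈ (Finset.univ.erase d : Finset Ω) :=
    fun g hg => Finset.mem_erase.mpr ⟨(Finset.mem_filter.mp hg).2, Finset.mem_univ _⟩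
  have hsum := Finset.card_eq_sum_card_fiberwise hmap
  have hle : ∀ e ∈ (Finset.univ.erase d : Finset Ω),
      ((I.filter fun g => g • d ≠ d).filter fun g => g • d = e).card ≤ (J c₀).card := by
    intro e he
    rcases Finset.eq_empty_or_nonempty ((I.filter fun g => g • d ≠ d).filter fun g => g • d = e) with
      h | ⟨v, hv⟩
    · simp [h]
    · simp only [Finset.mem_filter, hI, Finset.mem_univ, true_and] at hv
      obtain ⟨c, hvc, -⟩ := H.existsUnique_fixed hΩ hv.1.1
      rw [← hk c]
      refine Finset.card_le_card fun v' hv' => ?_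
      simp only [Finset.mem_filter, hI, Finset.mem_univ, true_and] at hv'
      exact (hmemJ c v').mpr ⟨hv'.1.1, hshare v v' e c hv.1.1 hv'.1.1 (Finset.mem_erase.mp he).1
        hv.2 hv'.2 hvc⟩
  have hlt : ((I.filter fun g => g • d ≠ d).filter fun g => g • d = a • d).card < (J c₀).card := by
    refine lt_of_lt_of_le (Finset.card_lt_card (Finset.ssubset_iff_of_subset ?_ |>.mpr
      ⟨b, (hmemJ _ _).mpr ⟨hb, hb0⟩, fun h => hd ?_⟩)) le_rfl
    · intro v' hv'
      simp only [Finset.mem_filter, hI, Finset.mem_univ, true_and] at hv'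
      exact (hmemJ c₀ v').mpr ⟨hv'.1.1, hshare a v' (a • d) c₀ ha hv'.1.1 had rfl hv'.2 hc₀⟩
    · exact ((Finset.mem_filter.mp h).2).symm
  have hS := Finset.sum_lt_sum hle ⟨a • d, Finset.mem_erase.mpr ⟨had, Finset.mem_univ _⟩, hlt⟩
  rw [← hsum, Finset.sum_const, smul_eq_mul, Finset.card_erase_of_mem (Finset.mem_univ d),
    Finset.card_univ] at hS
  have hn : 0 < Fintype.card Ω := Fintype.card_pos_iff.mpr ⟨d⟩
  have h5 : (Fintype.card Ω - 1) * (J c₀).card + (J c₀).card = I.card := by
    rw [hIsum, ← Nat.succ_mul, show (Fintype.card Ω - 1).succ = Fintype.card Ω by omega]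
  omega

/-- Without commuting involutions the group is `p`-solvable. -/
theorem Hyp.isPSolvable (H : Hyp G p)
    (hcomm : ∀ a b : G, orderOf a = 2 → orderOf b = 2 → a * b = b * a → a = b) : IsPSolvable p G := by
  classical
  haveI := Fintype.ofFinite G
  haveI : Fact (Nat.Prime 2) := ⟨Nat.prime_two⟩
  obtain ⟨z, hz⟩ := exists_prime_orderOf_dvd_card' (G := G) 2 H.two_dvd
  obtain ⟨hz2, hz1⟩ := orderOf_two hz
  have hodd : OddInvol z := ⟨hz2, hz1, fun g => by
    by_contra hev
    have hg2 := orderOf_conj_two hz g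
    obtain ⟨m, hm, hzm, hgm⟩ := exists_between hz2 (orderOf_two hg2).1 hev
    have h1 := hcomm z _ hz hm hzm
    have h2 := hcomm _ _ hg2 hm hgm
    rw [h2, ← h1, hz2, orderOf_one] at hev
    exact hev odd_one⟩
  have hcmc := zStar hodd
  set O := oddCore G with hO
  haveI : O.Normal := Cfsg.Agent.Solv.pPrimeCore_normal 2
  have hOodd : Odd (Nat.card O) := card_oddCore_odd G
  letI : MulAction O G := MulAction.compHom G ((MulAut.conj (G := G)).comp O.subtype)
  have hset : {v : G | IsConj z v} = MulAction.orbit O z := by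
    ext v
    constructor
    · intro hv
      obtain ⟨g, rfl⟩ := isConj_iff.mp hv
      set v := g * z * g⁻¹ with hv'
      have hzi := inv_eq_of_mul_eq_one_right hz2
      have hv2 : v * v = 1 := by
        rw [hv', show g * z * g⁻¹ * (g * z * g⁻¹) = g * (z * z) * g⁻¹ by group, hz2, mul_one,
          mul_inv_cancel]
      have hvi := inv_eq_of_mul_eq_one_right hv2
      have hmem : v * z ∈ O := by
        have h1 := inv_mem (hcmc g)
        rw [show (z * g * z⁻¹ * g⁻¹)⁻¹ = v * z⁻¹ by rw [hv']; group, hzi] at h1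
        exact h1
      obtain ⟨k, hk⟩ := exists_conj_inverted (w := z) (g := v * z) hz2
        (hOodd.of_dvd_nat (Subgroup.orderOf_dvd_natCard _ hmem))
        (by rw [mul_inv_rev, hzi, hvi, mul_assoc, mul_assoc, hz2, mul_one])
      refine ⟨⟨(v * z) ^ k, pow_mem hmem k⟩, ?_⟩
      show (v * z) ^ k * z * ((v * z) ^ k)⁻¹ = v
      rw [hk, mul_assoc, hz2, mul_one]
    · rintro ⟨k, rfl⟩
      exact isConj_iff.mpr ⟨k, rfl⟩
  have hdvd : Nat.card {v : G // IsConj z v} ∣ Nat.card O := by
    rw [show Nat.card {v : G // IsConj z v} = ({v : G | IsConj z v}).ncard from Nat.card_coe_set_eq _,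
      hset, ← MulAction.index_stabilizer]
    exact Subgroup.index_dvd_card _
  have hnd : ¬ p ∣ O.index := by
    intro hd
    set n := (Nat.card G).factorization p with hn
    have h1 : p ^ n ∣ Nat.card {v : G // IsConj z v} := by
      have h2 : p ^ n ∣ Nat.card {v : G // IsConj z v} *
          Nat.card (Subgroup.centralizer ({z} : Set G)) := by
        rw [card_conjClass_mul_centralizer]
        exact Nat.ordProj_dvd _ p
      exact (((hp.out.coprime_iff_not_dvd.mpr (H.involution_centralizer hz)).pow_left n).dvd_of_dvd_mul_right h2)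
    have h3 : p ^ (n + 1) ∣ Nat.card G := by
      rw [← O.index_mul_card, pow_succ']
      exact mul_dvd_mul hd (h1.trans hdvd)
    have := (hp.out.pow_dvd_iff_le_factorization Nat.card_pos.ne').mp h3
    omega
  refine Cfsg.Agent.Solv.isPSolvable_of_extension O (isPSolvable_of_isSolvable hp.out _ rfl
    (OddFT.odd_solvable_of_no_min OddFT.no_minSimple hOodd))
    (Cfsg.Agent.Solv.isPSolvable_top_step (Or.inr ?_))
  exact Nat.coprime_comm.mp (hp.out.coprime_iff_not_dvd.mpr hnd)

end Cfsg.Agent.OddCent
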